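import Groth.Agent.Flatmor4.FlatDim
import Groth.Agent.FibreDim.BaseChange
import Groth.Agent.FibreDim.Retrocompact
import Groth.Agent.Divisors.EffCartier
import Groth.Agent.Divisors.BlowUpBasic

/-!
# Universal equidimensionality of flat closures and flat strict transforms (helper92)
-/

set_option autoImplicit false
set_option linter.style.haveILetI false
universe u

open CategoryTheory CategoryTheory.Limits AlgebraicGeometry TopologicalSpace

namespace Groth.CycEquidim

variable {X Y : Scheme.{u}}

/-- A flat morphism with fibre dimension `r` at all maximal points has fibre dimension `r` everywhere. -/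
theorem fibreDimAt_eq_of_flat (f : X ⟶ Y) [Flat f] [LocallyOfFinitePresentation f] {r : ℕ}
    (h : ∀ ξ : X, IsMax ξ → FlatMor.fibreDimAt f ξ = r) (x : X) : FlatMor.fibreDimAt f x = r := by
  obtain ⟨z, -, hzx, -, hd⟩ := Groth.FibreDim.exists_maximal_fibre_point f x
  obtain ⟨ξ, hξ, hξz⟩ := Groth.FibreDim.exists_max_specializes z
  refine le_antisymm ?_ ((h ξ hξ).ge.trans (Groth.FibreDim.fibreDimAt_le_of_specializes f (hξz.trans hzx)))
  rw [← hd, ← h ξ hξ]
  exact Groth.Flatmor4.height_asFiber_le_fibreDimAt_of_specializes f hξz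

/-- Flatness and constant fibre dimension give universal equidimensionality. -/
theorem equidim_baseChange (f : X ⟶ Y) [Flat f] [LocallyOfFinitePresentation f] {r : ℕ}
    (h : ∀ ξ : X, IsMax ξ → FlatMor.fibreDimAt f ξ = r) {Y' : Scheme.{u}} (g : Y' ⟶ Y) :
    (∀ w : ↥(pullback f g), FlatMor.fibreDimAt (pullback.snd f g) w = r) ∧
      ∀ C ∈ irreducibleComponents ↥(pullback f g),
        closure ((pullback.snd f g).base '' C) ∈ irreducibleComponents ↥Y' := by
  refine ⟨fun w => ?_, fun C hC => ?_⟩
  · rw [Groth.FibreDim.fibreDimAt_baseChange f g (pullback.snd f g) (pullback.fst f g)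
      (IsPullback.of_hasPullback f g)]
    exact fibreDimAt_eq_of_flat f h _
  · have hg := hC.1.isGenericPoint_genericPoint (isClosed_of_mem_irreducibleComponents _ hC)
    have hcl : closure {hC.1.genericPoint} ∈ irreducibleComponents ↥(pullback f g) := by rwa [hg.def]
    have hm := Groth.Flatmor4.isMax_image (pullback.snd f g) (Groth.FibreDim.isMax_of_mem_genericPoints hcl)
    have himg : closure ((pullback.snd f g).base '' C) = closure {(pullback.snd f g).base hC.1.genericPoint} := by
      refine le_antisymm (closure_minimal ?_ isClosed_closure)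
        (closure_mono (Set.singleton_subset_iff.mpr ⟨_, hg.mem, rfl⟩))
      rintro _ ⟨c, hc, rfl⟩
      exact specializes_iff_mem_closure.mp ((hg.specializes hc).map (pullback.snd f g).continuous)
    rw [himg]
    exact Groth.FibreDim.mem_irreducibleComponents_of_isMax hm

/-- The fibre dimension is computed on topological open neighbourhoods. -/
theorem fibreDimAt_comp_of_isOpenEmbedding {V : Scheme.{u}} (j : V ⟶ X) (hj : Topology.IsOpenEmbedding j.base)
    (f : X ⟶ Y) (v : V) : FlatMor.fibreDimAt (j ≫ f) v = FlatMor.fibreDimAt f (j.base v) := by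
  let y := f.base (j.base v)
  have h1 := Groth.FibreDim.fibreDimAt_eq_of_range (j ≫ f) y (A := ↥(j.base ⁻¹' (f.base ⁻¹' {y})))
    (e := Subtype.val) Topology.IsEmbedding.subtypeVal (by rw [Subtype.range_coe]; rfl) ⟨v, rfl⟩
  have h2 := Groth.FibreDim.fibreDimAt_eq_of_range f y (A := ↥(f.base ⁻¹' {y})) (e := Subtype.val)
    Topology.IsEmbedding.subtypeVal Subtype.range_coe ⟨j.base v, rfl⟩
  rw [h1, h2]
  exact Groth.FibreDim.localDim_eq_of_isOpenEmbedding (hj.restrictPreimage (f.base ⁻¹' {y})) ⟨v, rfl⟩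

/-- The fibre dimension of the reduced closure of a point over a generic point of the base. -/
theorem generic_fibreDim {S Z : Scheme.{u}} (p : X ⟶ S) [LocallyOfFiniteType p] (z : X)
    (hz : closure {p.base z} ∈ irreducibleComponents ↥S) (r : ℕ)
    (hr : topologicalKrullDim ↥(closure ({p.asFiber z} : Set ↥(p.fiber (p.base z)))) = r)
    (ι : Z ⟶ X) [IsClosedImmersion ι] (hZ : Set.range ι.base = closure {z})
    (w : Z) (hw : IsMax ((ι ≫ p).base w)) :
    FlatMor.fibreDimAt (ι ≫ p) w = r := by
  obtain ⟨z₀, hz₀⟩ : z ∈ Set.range ι.base := hZ ▸ subset_closure rfl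
  have htop : ∀ v : Z, z₀ ⤳ v := fun v => by
    rw [← ι.isEmbedding.toIsInducing.specializes_iff, hz₀]
    exact specializes_iff_mem_closure.mpr (hZ.le ⟨v, rfl⟩)
  have hy : (ι ≫ p).base w = p.base z := by
    have h1 : p.base z ⤳ (ι ≫ p).base w := by
      have h := (htop w).map (ι ≫ p).continuous
      rwa [show (ι ≫ p).base z₀ = p.base z by rw [← hz₀]; rfl] at h
    exact (h1.antisymm (hw h1)).eq.symm
  obtain ⟨z', hz', hz'w, hz0, hd⟩ := Groth.FibreDim.exists_maximal_fibre_point (ι ≫ p) w
  obtain rfl : z' = z₀ := by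
    refine (((Groth.FibreDim.isMax_asFiber_iff (ι ≫ p) z').1 (Order.coheight_eq_zero.1 hz0)) z₀ ?_ (htop z')).symm
    rw [hz', hy, ← hz₀]
    rfl
  rw [← hd, ← Groth.Variety2.Dim.dim_closure_singleton, ← hr]
  refine IsHomeomorph.topologicalKrullDim_eq _ (Homeomorph.isHomeomorph ?_)
  let A := ↥(closure ({(ι ≫ p).asFiber z'} : Set ↥((ι ≫ p).fiber ((ι ≫ p).base z'))))
  let B := ↥(closure ({p.asFiber z} : Set ↥(p.fiber (p.base z))))
  let eA : A → X := fun a => ι.base (((ι ≫ p).fiberι _).base a.1)
  let eB : B → X := fun b => (p.fiberι _).base b.1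
  have hA : Topology.IsEmbedding eA :=
    (ι.isEmbedding.comp ((ι ≫ p).fiberι _).isEmbedding).comp Topology.IsEmbedding.subtypeVal
  have hB : Topology.IsEmbedding eB := (p.fiberι _).isEmbedding.comp Topology.IsEmbedding.subtypeVal
  have hzz : ι.base z' = z := hz₀
  have hrange : Set.range eA = Set.range eB := by
    ext x
    constructor
    · rintro ⟨a, rfl⟩
      have h1 : eA a ∈ p.base ⁻¹' {p.base z} := by
        show (ι ≫ p).base (((ι ≫ p).fiberι _).base a.1) ∈ ({p.base z} : Set S)
        rw [Set.mem_singleton_iff, ← hzz]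
        exact ((ι ≫ p).range_fiberι _).le ⟨_, rfl⟩
      obtain ⟨b, hb⟩ := (p.range_fiberι _).ge h1
      refine ⟨⟨b, specializes_iff_mem_closure.mp ?_⟩, hb⟩
      rw [← (p.fiberι _).isEmbedding.toIsInducing.specializes_iff, hb, p.fiberι_asFiber, ← hzz]
      exact (htop _).map ι.continuous
    · rintro ⟨b, rfl⟩
      have hbz : z ⤳ eB b := by
        have h := (specializes_iff_mem_closure.mpr b.2).map (p.fiberι _).continuous
        rwa [p.fiberι_asFiber] at h
      obtain ⟨v, hv⟩ := hZ.ge (specializes_iff_mem_closure.mp hbz)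
      have h1 : v ∈ (ι ≫ p).base ⁻¹' {(ι ≫ p).base z'} := by
        show p.base (ι.base v) ∈ ({p.base (ι.base z')} : Set S)
        rw [hv, hzz]
        exact (p.range_fiberι _).le ⟨_, rfl⟩
      obtain ⟨a, ha⟩ := ((ι ≫ p).range_fiberι _).ge h1
      refine ⟨⟨a, specializes_iff_mem_closure.mp ?_⟩, ?_⟩
      · rw [← ((ι ≫ p).fiberι _).isEmbedding.toIsInducing.specializes_iff, (ι ≫ p).fiberι_asFiber]
        exact htop _
      · show ι.base _ = _
        rw [ha, hv]
  exact hA.toHomeomorph.trans ((Homeomorph.setCongr hrange).trans hB.toHomeomorph.symm)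

end Groth.CycEquidim
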